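import Groth.Agent.PicPn22.Gen
import Groth.Agent.Coherent.ProjSpaceFlat
import Groth.Agent.UfdExt24.Trivial
import Mathlib.RingTheory.Polynomial.UniqueFactorization

/-!
# Invertible sheaves on projective space over a factorial domain
-/

set_option autoImplicit false
set_option linter.unusedSectionVars false
set_option linter.style.haveILetI false
set_option backward.isDefEq.respectTransparency.types false

universe u

open CategoryTheory AlgebraicGeometry Opposite TopologicalSpace MvPolynomial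
open Groth.Agent.Coherent Groth.Agent.PicLib

namespace Groth.Agent.PicPn22

variable (n : ℕ) (R : Type u) [CommRing R] [IsDomain R]

/-- `D₊(X_i)`. -/
noncomputable abbrev D (i : Fin (n + 1)) : (CohB1.ProjSpace n R).Opens :=
  Proj.basicOpen (CohB1.polyGrading n R) (X i)

theorem eta_mem_D (i : Fin (n + 1)) : eta n R ∈ D n R i := (notMem_eta n R).2 (X_ne_zero i)

theorem eta_mem_inf (i j : Fin (n + 1)) : eta n R ∈ D n R i ⊓ D n R j :=
  ⟨eta_mem_D n R i, eta_mem_D n R j⟩

/-- The rational function of a function on an open of projective space. -/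
noncomputable def evS (V : (CohB1.ProjSpace n R).Opens) (h : eta n R ∈ V) : Γ(CohB1.ProjSpace n R, V) →+* Fr n R :=
  ev n R V h

theorem evS_injective (V : (CohB1.ProjSpace n R).Opens) (h : eta n R ∈ V) : Function.Injective (evS n R V h) :=
  ev_injective n R V h

theorem evS_res {V W : (CohB1.ProjSpace n R).Opens} (hle : W ≤ V) (h : eta n R ∈ W)
    (g : Γ(CohB1.ProjSpace n R, V)) :
    evS n R W h ((CohB1.ProjSpace n R).presheaf.map (homOfLE hle).op g) = evS n R V (hle h) g := rfl

theorem exists_evS_of_isUnit_D (i : Fin (n + 1)) {g : Γ(CohB1.ProjSpace n R, D n R i)} (hg : IsUnit g) :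
    ∃ c : R, IsUnit c ∧ evS n R _ (eta_mem_D n R i) g = am n R (C c) := by
  obtain ⟨c, e, hc, hev, hsum, hsupp⟩ := exists_ev_unit_eq n R (α := Finsupp.single i 1)
    (by rw [Finsupp.degree_single]; exact one_pos) (V := D n R i) rfl (eta_mem_D n R i) hg
  refine ⟨c, hc, hev.trans ?_⟩
  have hne : ∀ l, l ≠ i → e l = 0 := fun l hl => hsupp l (Finsupp.single_eq_of_ne hl)
  have hi : e i = 0 := by
    rwa [Finset.sum_eq_single i (fun l _ hl => hne l hl) (fun h => absurd (Finset.mem_univ i) h)] at hsum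
  rw [show e = 0 from funext fun l => if hl : l = i then hl ▸ hi else hne l hl, mono_zero, mul_one]

theorem exists_evS_of_isUnit_inf (i j : Fin (n + 1)) {g : Γ(CohB1.ProjSpace n R, D n R i ⊓ D n R j)}
    (hg : IsUnit g) : ∃ (c : R) (k : ℤ), IsUnit c ∧
      evS n R _ (eta_mem_inf n R i j) g = am n R (C c) * mono n R (Pi.single j k - Pi.single i k) := by
  classical
  obtain ⟨c, e, hc, hev, hsum, hsupp⟩ := exists_ev_unit_eq n R
    (α := Finsupp.single i 1 + Finsupp.single j 1)
    (by rw [map_add, Finsupp.degree_single, Finsupp.degree_single]; omega) (V := D n R i ⊓ D n R j)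
    (by
      show Proj.basicOpen (CohB1.polyGrading n R) (X i) ⊓ Proj.basicOpen (CohB1.polyGrading n R) (X j) =
        Proj.basicOpen (CohB1.polyGrading n R) (monomial _ 1)
      rw [← Proj.basicOpen_mul, X, X, monomial_mul, one_mul])
    (eta_mem_inf n R i j) hg
  have hne : ∀ l, l ≠ i → l ≠ j → e l = 0 := fun l hi hj => hsupp l (by
    rw [Finsupp.add_apply, Finsupp.single_eq_of_ne hi, Finsupp.single_eq_of_ne hj, add_zero])
  refine ⟨c, if i = j then 0 else e j, hc, hev.trans ?_⟩
  congr 2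
  by_cases hij : i = j
  · subst hij
    have hi : e i = 0 := by
      rwa [Finset.sum_eq_single i (fun l _ hl => hne l hl hl) (fun h => absurd (Finset.mem_univ i) h)] at hsum
    funext l
    by_cases hl : l = i
    · subst hl; simpa using hi
    · simpa using hne l hl hl
  · have hi : e i + e j = 0 := by
      rwa [Finset.sum_eq_add i j hij (fun l _ hl => hne l hl.1 hl.2) (fun h => absurd (Finset.mem_univ i) h)
        (fun h => absurd (Finset.mem_univ j) h)] at hsum
    funext l
    rw [if_neg hij, Pi.sub_apply]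
    by_cases hl : l = i
    · subst hl
      rw [Pi.single_eq_of_ne hij, Pi.single_eq_same]
      omega
    · rw [Pi.single_eq_of_ne hl]
      by_cases hl' : l = j
      · subst hl'
        rw [Pi.single_eq_same, sub_zero]
      · rw [Pi.single_eq_of_ne hl', sub_zero, hne l hl hl']

/-- Constant functions. -/
theorem exists_const (V : (CohB1.ProjSpace n R).Opens) (h : eta n R ∈ V) (c : R) :
    ∃ g : Γ(CohB1.ProjSpace n R, V), evS n R V h g = am n R (C c) := by
  have nin : ∀ x : ↥V, ((⟨1, SetLike.GradedOne.one_mem⟩ : CohB1.polyGrading n R 0) :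
      MvPolynomial (Fin (n + 1)) R) ∉ x.1.asHomogeneousIdeal :=
    fun x hx => x.1.isPrime.ne_top ((Ideal.eq_top_iff_one _).mpr hx)
  refine ⟨(⟨fun x => HomogeneousLocalization.mk ⟨0, ⟨C c, isHomogeneous_C _ c⟩,
      ⟨1, SetLike.GradedOne.one_mem⟩, nin x⟩,
    fun x => ⟨V, x.2, 𝟙 V, 0, ⟨C c, isHomogeneous_C _ c⟩, ⟨1, SetLike.GradedOne.one_mem⟩, fun y => nin y,
      fun y => rfl⟩⟩ : Twist.O (𝒜 := CohB1.polyGrading n R) (op V)), ?_⟩
  exact (congrArg (iota n R) (HomogeneousLocalization.val_mk _)).trans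
    ((iota_mk n R _ _).trans (by simp))

theorem exists_const_isUnit (V : (CohB1.ProjSpace n R).Opens) (h : eta n R ∈ V) {c : R} (hc : IsUnit c) :
    ∃ g : Γ(CohB1.ProjSpace n R, V), IsUnit g ∧ evS n R V h g = am n R (C c) := by
  obtain ⟨g, hg⟩ := exists_const n R V h c
  obtain ⟨d, hd⟩ := isUnit_iff_exists_inv.1 hc
  obtain ⟨g', hg'⟩ := exists_const n R V h d
  refine ⟨g, IsUnit.of_mul_eq_one g' (evS_injective n R V h ?_), hg⟩
  rw [map_mul, hg, hg', ← map_mul, ← map_mul, hd, map_one, map_one, map_one]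

/-- Generators on the standard charts with transition functions `(X_i / X_j) ^ d`. -/
def IsFrame (M : (CohB1.ProjSpace n R).Modules) (d : ℤ) (s : ∀ i, Γ(M, D n R i)) : Prop :=
  (∀ i, IsGen M (D n R i) (s i)) ∧
    ∀ (i j : Fin (n + 1)) (a : Γ(CohB1.ProjSpace n R, D n R i ⊓ D n R j)),
      resM M inf_le_left (s i) = a • resM M inf_le_right (s j) →
        evS n R _ (eta_mem_inf n R i j) a = mono n R (Pi.single i d - Pi.single j d)

theorem isIso_of_frames {M N : (CohB1.ProjSpace n R).Modules} {d : ℤ} {s : ∀ i, Γ(M, D n R i)}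
    {t : ∀ i, Γ(N, D n R i)} (hs : IsFrame n R M d s) (ht : IsFrame n R N d t) : Nonempty (M ≅ N) := by
  have hU : (⨆ i : ULift.{u} (Fin (n + 1)), D n R i.down) = ⊤ := by
    refine eq_top_iff.2 fun x _ => ?_
    obtain ⟨i, hi⟩ := Opens.mem_iSup.1 ((ProjLib.iSup_basicOpen_X n R).ge (Opens.mem_top x))
    exact Opens.mem_iSup.2 ⟨⟨i⟩, hi⟩
  obtain ⟨φ, hφ⟩ := exists_hom_of_gen (M := N) (fun i : ULift.{u} (Fin (n + 1)) => D n R i.down) hU
    (fun i => s i.down) (fun i => hs.1 i.down) (fun i => t i.down) (fun i j W hi hj c hc => by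
      obtain ⟨a, ha⟩ := ((hs.1 j.down) (D n R i.down ⊓ D n R j.down) inf_le_right).2 (resM M inf_le_left (s i.down))
      obtain ⟨b, hb⟩ := ((ht.1 j.down) (D n R i.down ⊓ D n R j.down) inf_le_right).2 (resM N inf_le_left (t i.down))
      dsimp only at ha hb
      have hab : a = b := evS_injective n R _ (eta_mem_inf n R _ _)
        ((hs.2 _ _ a ha.symm).trans (ht.2 _ _ b hb.symm).symm)
      subst hab
      have hW : W ≤ D n R i.down ⊓ D n R j.down := le_inf hi hj
      have h1 := congrArg (resM M hW) ha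
      have h2 := congrArg (resM N hW) hb
      rw [resM_smul, resM_resM, resM_resM] at h1 h2
      have hcc : (CohB1.ProjSpace n R).presheaf.map (homOfLE hW).op a = c :=
        ((hs.1 j.down) W hj).1 (h1.trans hc)
      rw [hcc] at h2
      exact h2.symm)
  haveI : IsIso φ := TwistLib.isIso_of_bijective_on φ (fun i : ULift.{u} (Fin (n + 1)) => D n R i.down)
    (fun x => Opens.mem_iSup.1 (hU.ge (Opens.mem_top x))) fun i V hV => by
    have e : ∀ r : Γ(CohB1.ProjSpace n R, V), φ.app V (r • resM M hV (s i.down)) = r • resM N hV (t i.down) :=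
      fun r => by rw [Scheme.Modules.Hom.app_smul, app_resM, hφ i]
    refine ((hs.1 i.down V hV).of_comp_iff _).1 ?_
    rw [show (⇑(φ.app V) ∘ fun r => r • resM M hV (s i.down)) = fun r => r • resM N hV (t i.down) from funext e]
    exact ht.1 i.down V hV
  exact ⟨asIso φ⟩

theorem exists_frame_twist (d : ℤ) :
    ∃ t : ∀ i, Γ(Twist.twistProjSpace n R d, D n R i), IsFrame n R (Twist.twistProjSpace n R d) d t := by
  obtain ⟨m, rfl⟩ : ∃ m : ℤ, d = m * ((1 : ℕ) : ℤ) := ⟨d, by simp⟩
  refine ⟨fun i => TwistLib.tau (ProjLib.X_mem_polyGrading n R i) m _ le_rfl,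
    fun i => TwistLib.isGen_tau (ProjLib.X_mem_polyGrading n R i) m, fun i j a ha => ?_⟩
  have hev : ∀ (l : Fin (n + 1)) (V : (CohB1.ProjSpace n R).Opens) (hV : V ≤ D n R l) (h : eta n R ∈ V),
      evT n R V h (TwistLib.tau (ProjLib.X_mem_polyGrading n R l) m V hV) = xi n R l ^ m := by
    intro l V hV h
    refine (iota_mk n R _ _).trans ?_
    rw [map_pow, map_pow, ← zpow_natCast, ← zpow_natCast]
    show xi n R l ^ _ / xi n R l ^ _ = _
    rw [← zpow_sub₀ (xi_ne_zero n R l), Int.toNat_sub_toNat_neg]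
  have h1 : evT n R _ (eta_mem_inf n R i j)
        (TwistLib.tau (ProjLib.X_mem_polyGrading n R i) m (D n R i ⊓ D n R j) inf_le_left) =
      evS n R _ (eta_mem_inf n R i j) a * evT n R _ (eta_mem_inf n R i j)
        (TwistLib.tau (ProjLib.X_mem_polyGrading n R j) m (D n R i ⊓ D n R j) inf_le_right) :=
    (congrArg (evT n R _ (eta_mem_inf n R i j)) ha).trans (evT_oSmul n R _ _ a _)
  have h2 : xi n R i ^ m = evS n R _ (eta_mem_inf n R i j) a * xi n R j ^ m :=
    (hev i _ inf_le_left _).symm.trans (h1.trans (congrArg (_ * ·) (hev j _ inf_le_right _)))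
  rw [Nat.cast_one, mul_one, mono_sub, mono_single, mono_single, eq_div_iff (zpow_ne_zero _ (xi_ne_zero n R j)), h2]

end Groth.Agent.PicPn22
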