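import Groth.Agent.PicPn22.Pic

/-!
# The Picard group of projective space over a factorial domain
-/

set_option autoImplicit false
set_option linter.unusedSectionVars false
set_option linter.style.haveILetI false
set_option backward.isDefEq.respectTransparency.types false

universe u

open CategoryTheory AlgebraicGeometry Opposite TopologicalSpace MvPolynomial
open Groth.Agent.Coherent Groth.Agent.PicLib

namespace Groth.Agent.PicPn22

variable (n : ℕ) (R : Type u) [CommRing R] [IsDomain R]

/-- The sections on a standard chart form a polynomial ring. -/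
noncomputable def chartRing (i : Fin (n + 1)) :
    Γ(CohB1.ProjSpace n R, D n R i) ≃+* MvPolynomial {j : Fin (n + 1) // j ≠ i} R :=
  (Proj.basicOpenIsoAway (CohB1.polyGrading n R) (X i) (ProjLib.X_mem_polyGrading n R i)
    one_pos).commRingCatIsoToRingEquiv.symm.trans
    ((ProjLib.awayEquivQuotient (ProjLib.X_mem_polyGrading n R i)).trans (dehomAlg n R i).toRingEquiv)

theorem exists_gen_D [UniqueFactorizationMonoid R] (L : (CohB1.ProjSpace n R).Modules) (hL : PicF.IsInvertible L)
    (i : Fin (n + 1)) : ∃ s : Γ(L, D n R i), IsGen L (D n R i) s := by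
  haveI : IsDomain Γ(CohB1.ProjSpace n R, D n R i) := MulEquiv.isDomain (MvPolynomial {j : Fin (n + 1) // j ≠ i} R)
    (chartRing n R i).toMulEquiv
  haveI : UniqueFactorizationMonoid Γ(CohB1.ProjSpace n R, D n R i) :=
    MulEquiv.uniqueFactorizationMonoid (chartRing n R i).symm.toMulEquiv inferInstance
  obtain ⟨U, s, hy, hs⟩ := exists_cover hL
  exact UfdExt24.exists_gen_of_affine_ufd (X := CohB1.ProjSpace n R) (W := D n R i)
    (Proj.isAffineOpen_basicOpen (CohB1.polyGrading n R) (X i) (ProjLib.X_mem_polyGrading n R i) one_pos)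
    le_rfl L fun y hyD => ⟨U y ⊓ D n R i, ⟨hy y, hyD⟩, inf_le_right, resM L inf_le_left (s y),
      (hs y).restrict inf_le_left⟩

theorem exists_frame [UniqueFactorizationMonoid R] (L : (CohB1.ProjSpace n R).Modules) (hL : PicF.IsInvertible L) :
    ∃ (d : ℤ) (s : ∀ i, Γ(L, D n R i)), IsFrame n R L d s := by
  classical
  choose t ht using exists_gen_D n R L hL
  choose g hg using fun i j =>
    ((ht j) (D n R i ⊓ D n R j) inf_le_right).2 (resM L inf_le_left (t i))
  dsimp only at hg
  have rel : ∀ (i j : Fin (n + 1)) (W : (CohB1.ProjSpace n R).Opens) (h : eta n R ∈ W) (hi : W ≤ D n R i)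
      (hj : W ≤ D n R j) (a : Γ(CohB1.ProjSpace n R, W)),
      resM L hi (t i) = a • resM L hj (t j) → evS n R W h a = evS n R _ (eta_mem_inf n R i j) (g i j) := by
    intro i j W h hi hj a ha
    have hW : W ≤ D n R i ⊓ D n R j := le_inf hi hj
    have h1 := congrArg (resM L hW) (hg i j)
    rw [resM_smul, resM_resM, resM_resM] at h1
    rw [← (ht j W hj).1 (h1.trans ha), evS_res]
  have hcoc : ∀ i j k, evS n R _ (eta_mem_inf n R i k) (g i k) =
      evS n R _ (eta_mem_inf n R i j) (g i j) * evS n R _ (eta_mem_inf n R j k) (g j k) := by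
    intro i j k
    let W := D n R i ⊓ D n R j ⊓ D n R k
    have hW : eta n R ∈ W := ⟨eta_mem_inf n R i j, eta_mem_D n R k⟩
    have hij : W ≤ D n R i ⊓ D n R j := inf_le_left
    have hjk : W ≤ D n R j ⊓ D n R k := le_inf (inf_le_left.trans inf_le_right) inf_le_right
    have h1 := congrArg (resM L hij) (hg i j)
    have h2 := congrArg (resM L hjk) (hg j k)
    rw [resM_smul, resM_resM, resM_resM] at h1 h2
    rw [← h2, smul_smul] at h1
    rw [← rel i k W hW (hij.trans inf_le_left) (hjk.trans inf_le_right) _ h1.symm, map_mul, evS_res, evS_res]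
  have hself : ∀ i, evS n R _ (eta_mem_inf n R i i) (g i i) = 1 := fun i => by
    rw [← rel i i (D n R i) (eta_mem_D n R i) le_rfl le_rfl 1 (one_smul _ _).symm, map_one]
  have hu : ∀ i j, IsUnit (g i j) := fun i j => by
    refine IsUnit.of_mul_eq_one ((CohB1.ProjSpace n R).presheaf.map
      (homOfLE (le_inf inf_le_right inf_le_left : D n R i ⊓ D n R j ≤ D n R j ⊓ D n R i)).op (g j i))
      (evS_injective n R _ (eta_mem_inf n R i j) ?_)
    rw [map_mul, map_one, evS_res]
    exact (hcoc i j i).symm.trans (hself i)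
  choose c k hc hk using fun i j => exists_evS_of_isUnit_inf n R i j (hu i j)
  have hexp : ∀ i j l, (Pi.single l (k i l) - Pi.single i (k i l) : Fin (n + 1) → ℤ) =
      Pi.single j (k i j) - Pi.single i (k i j) + (Pi.single l (k j l) - Pi.single j (k j l)) := fun i j l => by
    refine eq_of_mono_eq n R (hc i l).ne_zero (c' := c i j * c j l) ?_
    rw [← hk i l, hcoc i j l, hk i j, hk j l, mono_add, map_mul, map_mul]
    ring
  obtain ⟨K, hK⟩ : ∃ K : ℤ, ∀ i : Fin (n + 1), (Pi.single i (k 0 i) - Pi.single 0 (k 0 i) : Fin (n + 1) → ℤ) =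
      Pi.single i K - Pi.single 0 K := by
    by_cases h : ∃ i₁ : Fin (n + 1), i₁ ≠ 0
    · obtain ⟨i₁, hi₁⟩ := h
      refine ⟨k 0 i₁, fun i => ?_⟩
      by_cases hi : i = 0
      · subst hi; simp
      · by_cases hii : i₁ = i
        · subst hii; rfl
        · have h0 := congrFun (hexp 0 i₁ i) 0
          simp only [Pi.add_apply, Pi.sub_apply, Pi.single_eq_same, Pi.single_eq_of_ne (Ne.symm hi₁),
            Pi.single_eq_of_ne (Ne.symm hi)] at h0
          rw [show k 0 i = k 0 i₁ by omega]
    · exact ⟨0, fun i => by simp only [not_exists, not_not] at h; simp [h i]⟩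
  choose q hqu hq using fun i => exists_const_isUnit n R (D n R i) (eta_mem_D n R i) (hc 0 i)
  refine ⟨-K, fun i => q i • t i, fun i => ?_, fun i j a ha => ?_⟩
  · have := (ht i).smul_unit (hqu i).unit
    rwa [IsUnit.unit_spec] at this
  · rw [resM_smul, resM_smul, smul_smul] at ha
    have h1 := congrArg (resM L (le_refl (D n R i ⊓ D n R j))) (hg i j)
    rw [resM_smul, resM_resM, resM_resM] at h1
    rw [← h1, smul_smul] at ha
    have h2 := congrArg (evS n R _ (eta_mem_inf n R i j)) ((ht j _ inf_le_right).1 ha)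
    rw [map_mul, map_mul, evS_res, evS_res, evS_res, hq, hq] at h2
    have hne : ∀ l, am n R (C (c 0 l)) ≠ 0 := fun l h => (hc 0 l).ne_zero
      (C_injective _ _ ((IsFractionRing.injective _ (Fr n R) (h.trans (map_zero _).symm)).trans (map_zero _).symm))
    have h3 := hcoc 0 i j
    rw [hk 0 i, hk 0 j, hK i, hK j] at h3
    refine mul_right_cancel₀ (hne j) (mul_left_cancel₀ (mono_ne_zero n R (Pi.single i K - Pi.single 0 K)) ?_)
    rw [← h2, ← mul_assoc, mul_comm (mono n R _) (am n R (C (c 0 i))), ← h3, ← mul_assoc, ← mono_add, mul_comm]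
    congr 2
    funext l
    simp only [Pi.add_apply, Pi.sub_apply, Pi.single_neg, Pi.neg_apply]
    ring

theorem exists_iso_twist [UniqueFactorizationMonoid R] (L : (CohB1.ProjSpace n R).Modules)
    (hL : PicF.IsInvertible L) : ∃ d : ℤ, Nonempty (L ≅ Twist.twistProjSpace n R d) := by
  obtain ⟨d, s, hs⟩ := exists_frame n R L hL
  obtain ⟨t, ht⟩ := exists_frame_twist n R d
  exact ⟨d, isIso_of_frames n R hs ht⟩

theorem isGen_map {M N : (CohB1.ProjSpace n R).Modules} (φ : M ≅ N) {U : (CohB1.ProjSpace n R).Opens} {s : Γ(M, U)}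
    (hs : IsGen M U s) : IsGen N U (φ.hom.app U s) := by
  intro V hV
  have hb := ConcreteCategory.bijective_of_isIso (φ.hom.app V)
  have : (fun r : Γ(CohB1.ProjSpace n R, V) => r • resM N hV (φ.hom.app U s)) =
      fun r => φ.hom.app V (r • resM M hV s) := funext fun r => by rw [Scheme.Modules.Hom.app_smul, app_resM]
  rw [this]
  exact hb.comp (hs V hV)

/-- The degree of a twist is determined, for positive dimension. -/
theorem eq_of_iso_twist (hn : 1 ≤ n) {a b : ℤ}
    (φ : Twist.twistProjSpace n R a ≅ Twist.twistProjSpace n R b) : a = b := by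
  obtain ⟨s, hs⟩ := exists_frame_twist n R a
  obtain ⟨t, ht⟩ := exists_frame_twist n R b
  let i : Fin (n + 1) := ⟨0, by omega⟩
  let j : Fin (n + 1) := ⟨1, by omega⟩
  have hij : i ≠ j := fun h => absurd (congrArg Fin.val h) (by simp [i, j])
  have hu : ∀ l, ∃ h : Γ(CohB1.ProjSpace n R, D n R l), IsUnit h ∧ φ.hom.app _ (s l) = h • t l := fun l => by
    obtain ⟨p, hp⟩ := (ht.1 l (D n R l) le_rfl).2 (φ.hom.app _ (s l))
    obtain ⟨q, hq⟩ := (isGen_map n R φ (hs.1 l) (D n R l) le_rfl).2 (t l)
    simp only [resM_self] at hp hq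
    refine ⟨p, IsUnit.of_mul_eq_one q ((ht.1 l (D n R l) le_rfl).1 ?_), hp.symm⟩
    simp only [resM_self, one_smul]
    rw [mul_comm, mul_smul, hp, hq]
  choose p hpu hp using hu
  choose c hc hcp using fun l => exists_evS_of_isUnit_D n R l (hpu l)
  obtain ⟨g, hg⟩ := ((hs.1 j) (D n R i ⊓ D n R j) inf_le_right).2 (resM _ inf_le_left (s i))
  dsimp only at hg
  obtain ⟨g', hg'⟩ := ((ht.1 j) (D n R i ⊓ D n R j) inf_le_right).2 (resM _ inf_le_left (t i))
  dsimp only at hg'
  have e1 := congrArg (φ.hom.app _) hg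
  rw [Scheme.Modules.Hom.app_smul, app_resM, app_resM, hp i, hp j, resM_smul, resM_smul, ← hg', smul_smul,
    smul_smul] at e1
  have e2 := congrArg (evS n R _ (eta_mem_inf n R i j)) ((ht.1 j _ inf_le_right).1 e1)
  rw [map_mul, map_mul, evS_res, evS_res, hs.2 i j g hg.symm, ht.2 i j g' hg'.symm, hcp, hcp,
    mul_comm] at e2
  exact by
    have e3 := congrFun (eq_of_mono_eq n R (hc j).ne_zero e2) i
    simpa [Pi.single_eq_of_ne hij] using e3

end Groth.Agent.PicPn22
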