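import Groth.Agent.TwistLib.TwistInv
import Groth.Agent.Coherent.ProjSpaceTwist
import Mathlib.Algebra.MvPolynomial.NoZeroDivisors
import Mathlib.RingTheory.Localization.FractionRing

/-!
# Values at the generic point of projective space over a domain
-/

set_option autoImplicit false
set_option linter.unusedSectionVars false
set_option backward.isDefEq.respectTransparency.types false

universe u

open CategoryTheory AlgebraicGeometry Opposite TopologicalSpace MvPolynomial
open Groth.Agent.Coherent Groth.Agent.PicLib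

namespace Groth.Agent.PicPn22

variable (n : ℕ) (R : Type u) [CommRing R] [IsDomain R]

/-- The generic point of `P^n_R`. -/
noncomputable def eta : ProjectiveSpectrum (CohB1.polyGrading n R) where
  asHomogeneousIdeal := ⊥
  isPrime := by
    rw [show (⊥ : HomogeneousIdeal (CohB1.polyGrading n R)).toIdeal = ⊥ from rfl]
    exact Ideal.isPrime_bot
  not_irrelevant_le h := X_ne_zero (R := R) (0 : Fin (n + 1))
    ((Ideal.mem_bot).1 (h (HomogeneousIdeal.mem_irrelevant_of_mem (CohB1.polyGrading n R) one_pos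
      (ProjLib.X_mem_polyGrading n R 0))))

theorem notMem_eta {a : MvPolynomial (Fin (n + 1)) R} :
    a ∉ (eta n R).asHomogeneousIdeal.toIdeal ↔ a ≠ 0 := by
  rw [show (eta n R).asHomogeneousIdeal.toIdeal = ⊥ from rfl, Ideal.mem_bot]

theorem eta_mem_of_nonempty {V : Opens (ProjectiveSpectrum.top (CohB1.polyGrading n R))}
    {x : ProjectiveSpectrum.top (CohB1.polyGrading n R)} (hx : x ∈ V) : eta n R ∈ V := by
  refine Specializes.mem_open ?_ V.2 hx
  refine specializes_iff_mem_closure.2 ((ProjectiveSpectrum.le_iff_mem_closure _ (eta n R) x).1 ?_)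
  exact (bot_le : (⊥ : HomogeneousIdeal (CohB1.polyGrading n R)) ≤ x.asHomogeneousIdeal)

/-- The function field. -/
abbrev Fr : Type u := FractionRing (MvPolynomial (Fin (n + 1)) R)

/-- Polynomials as rational functions. -/
noncomputable abbrev am : MvPolynomial (Fin (n + 1)) R →+* Fr n R := algebraMap _ _

/-- The stalk at the generic point into the function field. -/
noncomputable def iota : Twist.Loc (CohB1.polyGrading n R) (eta n R) →+* Fr n R :=
  IsLocalization.lift (M := (eta n R).asHomogeneousIdeal.toIdeal.primeCompl) (g := am n R) fun y =>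
    isUnit_iff_ne_zero.2 fun h => (notMem_eta n R).1 y.2
      (IsFractionRing.injective _ (Fr n R) (h.trans (map_zero _).symm))

theorem iota_mk (a : MvPolynomial (Fin (n + 1)) R) (s : (eta n R).asHomogeneousIdeal.toIdeal.primeCompl) :
    iota n R (Localization.mk a s) = am n R a / am n R s := by
  have hs : am n R s ≠ 0 := fun h => (notMem_eta n R).1 s.2
    (IsFractionRing.injective _ (Fr n R) (h.trans (map_zero _).symm))
  rw [Localization.mk_eq_mk', eq_div_iff hs, iota, IsLocalization.lift_mk', mul_assoc,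
    ← mul_one (am n R a), mul_assoc, one_mul]
  congr 1
  exact Units.inv_mul _

/-- The rational function of a function. -/
noncomputable def ev (V : Opens (ProjectiveSpectrum.top (CohB1.polyGrading n R))) (h : eta n R ∈ V) :
    Twist.O (𝒜 := CohB1.polyGrading n R) (op V) →+* Fr n R :=
  (iota n R).comp
    { toFun := fun g => (g.1 ⟨eta n R, h⟩).val
      map_one' := HomogeneousLocalization.val_one
      map_mul' := fun _ _ => HomogeneousLocalization.val_mul _ _
      map_zero' := HomogeneousLocalization.val_zero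
      map_add' := fun _ _ => HomogeneousLocalization.val_add _ _ }

theorem ev_injective (V : Opens (ProjectiveSpectrum.top (CohB1.polyGrading n R))) (h : eta n R ∈ V) :
    Function.Injective (ev n R V h) := by
  rw [injective_iff_map_eq_zero]
  intro g hg
  refine Subtype.ext (funext fun x => HomogeneousLocalization.val_injective _ ?_)
  obtain ⟨W, hxW, iW, j, a, b, nin, hw⟩ := g.2 x
  have hη : eta n R ∈ W := eta_mem_of_nonempty n R hxW
  have e1 : (g.1 ⟨eta n R, h⟩).val = Localization.mk a.1 ⟨b.1, nin ⟨eta n R, hη⟩⟩ :=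
    (congrArg HomogeneousLocalization.val (hw ⟨eta n R, hη⟩)).trans (HomogeneousLocalization.val_mk _)
  have e2 : (g.1 x).val = Localization.mk a.1 ⟨b.1, nin ⟨x.1, hxW⟩⟩ :=
    (congrArg HomogeneousLocalization.val (hw ⟨x.1, hxW⟩)).trans (HomogeneousLocalization.val_mk _)
  have ha : a.1 = 0 := by
    have h3 : am n R a.1 / am n R b.1 = 0 := ((iota_mk n R a.1 _).symm.trans (congrArg (iota n R) e1.symm)).trans hg
    rcases div_eq_zero_iff.1 h3 with h4 | h4
    · exact IsFractionRing.injective _ (Fr n R) (h4.trans (map_zero _).symm)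
    · exact absurd (IsFractionRing.injective _ (Fr n R) (h4.trans (map_zero _).symm))
        ((notMem_eta n R).1 (nin ⟨eta n R, hη⟩))
  rw [e2, ha, Localization.mk_zero]
  exact HomogeneousLocalization.val_zero.symm

/-- The value of a section of `O(d)` at the generic point. -/
noncomputable def evT {d : ℤ} (V : Opens (ProjectiveSpectrum.top (CohB1.polyGrading n R))) (h : eta n R ∈ V)
    (σ : Twist.sectN (𝒜 := CohB1.polyGrading n R) d (op V)) : Fr n R :=
  iota n R (σ.1 ⟨eta n R, h⟩).1

theorem evT_oSmul {d : ℤ} (V : Opens (ProjectiveSpectrum.top (CohB1.polyGrading n R))) (h : eta n R ∈ V)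
    (g : Twist.O (𝒜 := CohB1.polyGrading n R) (op V)) (σ : Twist.sectN (𝒜 := CohB1.polyGrading n R) d (op V)) :
    evT n R V h (oSmul g σ) = ev n R V h g * evT n R V h σ := by
  have h1 : ((oSmul g σ).1 ⟨eta n R, h⟩).1 =
      (g.1 ⟨eta n R, h⟩).val * (σ.1 ⟨eta n R, h⟩).1 := oSmul_val g σ ⟨eta n R, h⟩
  have h2 : iota n R ((oSmul g σ).1 ⟨eta n R, h⟩).1 =
      iota n R (g.1 ⟨eta n R, h⟩).val * iota n R (σ.1 ⟨eta n R, h⟩).1 := by rw [h1]; exact map_mul _ _ _
  exact h2

/-- The rational function `X_i`. -/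
noncomputable def xi (i : Fin (n + 1)) : Fr n R := am n R (X i)

theorem xi_ne_zero (i : Fin (n + 1)) : xi n R i ≠ 0 := fun h =>
  X_ne_zero (R := R) i (IsFractionRing.injective _ (Fr n R) (h.trans (map_zero _).symm))

/-- Laurent monomials. -/
noncomputable def mono (e : Fin (n + 1) → ℤ) : Fr n R := ∏ i, xi n R i ^ e i

theorem mono_add (e e' : Fin (n + 1) → ℤ) : mono n R (e + e') = mono n R e * mono n R e' := by
  rw [mono, mono, mono, ← Finset.prod_mul_distrib]
  exact Finset.prod_congr rfl fun i _ => zpow_add₀ (xi_ne_zero n R i) _ _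

theorem mono_ne_zero (e : Fin (n + 1) → ℤ) : mono n R e ≠ 0 :=
  Finset.prod_ne_zero_iff.2 fun i _ => zpow_ne_zero _ (xi_ne_zero n R i)

theorem mono_zero : mono n R 0 = 1 := Finset.prod_eq_one fun i _ => zpow_zero _

theorem mono_sub (e e' : Fin (n + 1) → ℤ) : mono n R (e - e') = mono n R e / mono n R e' := by
  rw [eq_div_iff (mono_ne_zero n R e'), ← mono_add, sub_add_cancel]

theorem mono_single (i : Fin (n + 1)) (k : ℤ) : mono n R (Pi.single i k) = xi n R i ^ k := by
  rw [mono, Finset.prod_eq_single i (fun j _ hj => by rw [Pi.single_eq_of_ne hj, zpow_zero])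
    (fun h => absurd (Finset.mem_univ i) h), Pi.single_eq_same]

theorem am_monomial (β : Fin (n + 1) →₀ ℕ) (c : R) :
    am n R (monomial β c) = am n R (C c) * mono n R fun i => (β i : ℤ) := by
  rw [monomial_eq, map_mul, Finsupp.prod_fintype _ _ (fun i => pow_zero _), map_prod]
  congr 1
  exact Finset.prod_congr rfl fun i _ => by rw [map_pow, zpow_natCast]; rfl

theorem eq_of_mono_eq {c c' : R} (hc : c ≠ 0) {e e' : Fin (n + 1) → ℤ}
    (h : am n R (C c) * mono n R e = am n R (C c') * mono n R e') : e = e' := by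
  obtain ⟨N, hN⟩ : ∃ N : ℕ, ∀ i, 0 ≤ e i + N ∧ 0 ≤ e' i + N :=
    ⟨∑ i, ((e i).natAbs + (e' i).natAbs), fun i => by
      have := Finset.single_le_sum (f := fun i => (e i).natAbs + (e' i).natAbs) (fun j _ => Nat.zero_le _)
        (Finset.mem_univ i)
      omega⟩
  have key : ∀ (f : Fin (n + 1) → ℤ) (b : R), (∀ i, 0 ≤ f i + N) →
      am n R (C b) * mono n R f * mono n R (fun _ => (N : ℤ)) =
        am n R (monomial (Finsupp.equivFunOnFinite.symm fun i => (f i + N).toNat) b) := fun f b hf => by
    rw [am_monomial, mul_assoc, ← mono_add]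
    congr 2
    funext i
    exact (Int.toNat_of_nonneg (hf i)).symm
  have h2 : monomial (Finsupp.equivFunOnFinite.symm fun i => (e i + N).toNat) c =
      monomial (Finsupp.equivFunOnFinite.symm fun i => (e' i + N).toNat) c' :=
    IsFractionRing.injective _ (Fr n R)
      (by rw [← key e c fun i => (hN i).1, ← key e' c' fun i => (hN i).2, h])
  rcases monomial_eq_monomial_iff _ _ _ _ |>.1 h2 with ⟨h3, -⟩ | ⟨h3, -⟩
  · funext i
    have h4 := congrArg (fun z : Fin (n + 1) →₀ ℕ => z i) h3
    simp only [Finsupp.equivFunOnFinite_symm_apply_apply] at h4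
    have := hN i
    omega
  · exact absurd h3 hc

/-- Units on the basic open of a monomial are Laurent monomials. -/
theorem exists_ev_unit_eq {α : Fin (n + 1) →₀ ℕ} (hα : 0 < α.degree)
    {V : Opens (ProjectiveSpectrum.top (CohB1.polyGrading n R))}
    (hV : V = ProjectiveSpectrum.basicOpen (CohB1.polyGrading n R) (monomial α 1)) (h : eta n R ∈ V)
    {g : Twist.O (𝒜 := CohB1.polyGrading n R) (op V)} (hg : IsUnit g) :
    ∃ (c : R) (e : Fin (n + 1) → ℤ), IsUnit c ∧ ev n R V h g = am n R (C c) * mono n R e ∧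
      ∑ i, e i = 0 ∧ ∀ i, α i = 0 → e i = 0 := by
  subst hV
  obtain ⟨g', hg'⟩ := isUnit_iff_exists_inv.1 hg
  have hf : (monomial α (1 : R)) ∈ CohB1.polyGrading n R α.degree := monomial_mem_polyGrading α 1
  have rep : ∀ a : Twist.O (𝒜 := CohB1.polyGrading n R)
      (op (ProjectiveSpectrum.basicOpen (CohB1.polyGrading n R) (monomial α 1))),
      ∃ (m : ℕ) (P : MvPolynomial (Fin (n + 1)) R), P.IsHomogeneous (m * α.degree) ∧
        ev n R _ h a = am n R P / am n R (monomial α 1 ^ m) := fun a => by
    obtain ⟨y, rfl⟩ := (ConcreteCategory.bijective_of_isIso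
      (Proj.basicOpenIsoAway (CohB1.polyGrading n R) _ hf hα).hom).2 a
    obtain ⟨m, P, hP, rfl⟩ := HomogeneousLocalization.Away.mk_surjective (CohB1.polyGrading n R) hf y
    refine ⟨m, P, (MvPolynomial.mem_homogeneousSubmodule _ _).1 (by rwa [smul_eq_mul] at hP), ?_⟩
    exact (congrArg (iota n R) (val_awayToSection_mk hf m P hP ⟨eta n R, h⟩)).trans (iota_mk n R _ _)
  obtain ⟨m, P, hP, hev⟩ := rep g
  obtain ⟨m', Q, -, hev'⟩ := rep g'
  have hne : ∀ k, am n R (monomial α 1 ^ k) ≠ 0 := fun k hk => pow_ne_zero k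
    (monomial_eq_zero.not.2 one_ne_zero) (IsFractionRing.injective _ (Fr n R) (hk.trans (map_zero _).symm))
  have hPQ : P * Q = monomial α 1 ^ (m + m') := by
    refine IsFractionRing.injective _ (Fr n R) ?_
    have h1 : ev n R _ h g * ev n R _ h g' = 1 := by rw [← map_mul, hg', map_one]
    rw [hev, hev', div_mul_div_comm, div_eq_one_iff_eq (mul_ne_zero (hne _) (hne _))] at h1
    rw [map_mul, pow_add, map_mul]
    exact h1
  rw [monomial_pow, one_pow] at hPQ
  obtain ⟨β, c, hβ, hc, rfl⟩ := dvd_monomial_one_iff_exists.1 (Dvd.intro Q hPQ)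
  have hdeg : β.degree = m * α.degree := by
    have h2 := hP (show coeff β (monomial β c) ≠ 0 by rw [coeff_monomial, if_pos rfl]; exact hc.ne_zero)
    exact (congrArg (fun z : _ →+ ℕ => z β) Finsupp.degree_eq_weight_one).trans h2
  refine ⟨c, fun i => (β i : ℤ) - m * α i, hc, ?_, ?_, fun i hi => ?_⟩
  · rw [hev, monomial_pow, one_pow, am_monomial, am_monomial, map_one, map_one, one_mul,
      mul_div_assoc, ← mono_sub]
    congr 2
  · have e1 : (β.degree : ℤ) = m * α.degree := by exact_mod_cast hdeg
    rw [degree_eq_sum, degree_eq_sum] at e1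
    push_cast at e1
    rw [Finset.sum_sub_distrib, e1, Finset.mul_sum, sub_self]
  · have h2 := hβ i
    simp only [Finsupp.coe_smul, Pi.smul_apply, smul_eq_mul, hi, mul_zero, nonpos_iff_eq_zero] at h2
    show (β i : ℤ) - m * α i = 0
    rw [h2, hi]
    simp

end Groth.Agent.PicPn22
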